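import Cfsg.Agent.H125.CY.Sum
import Cfsg.Agent.H145.BR.Count
import Cfsg.Agent.H996.Eight.Interval
import Cfsg.Agent.Blocks.Fong

/-!
# S4829: witnesses from actions of the group of automorphisms (helper205)

`A ≤ Aut S` acts on `Ω` so that inner automorphisms act as the elements of `S` (`Inn`).

* `act` : the action of `A` on `Ω` if `A` permutes the point stabilizers of `S`;
* `permC_modEq` : `π a ≡ |Ω|` if `a` centralizes a Sylow subgroup `Q` of `S` and fixes all fixed points of `Q`;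
* `witA_perm` : `Ψ = π - 1`.
-/

set_option autoImplicit false

namespace Cfsg.Agent.H205.CY

open MulAction Cfsg Cfsg.Agent.H770.CY Cfsg.Agent.H145.BR Cfsg.Agent.Characters

universe u v

variable {S : Type u} [Group S] {A : Subgroup (MulAut S)} (hA : ∀ s : S, MulAut.conj s ∈ A)

/-- the inner automorphisms act as the elements of `S` -/
def Inner (Ω : Type v) [MulAction S Ω] [MulAction A Ω] : Prop :=
  ∀ (s : S) (ω : Ω), (⟨MulAut.conj s, hA s⟩ : A) • ω = s • ω

variable {hA} {Ω : Type v} [MulAction S Ω] [MulAction A Ω]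

theorem conj_mul (a : A) (s : S) : a * (⟨MulAut.conj s, hA s⟩ : A) = (⟨MulAut.conj ((a : MulAut S) s), hA _⟩ : A) * a := by
  apply Subtype.ext
  apply MulEquiv.ext
  intro x
  show (a : MulAut S) (s * x * s⁻¹) = (a : MulAut S) s * (a : MulAut S) x * ((a : MulAut S) s)⁻¹
  rw [map_mul, map_mul, map_inv]

theorem Inner.smul_smul (h : Inner hA Ω) (a : A) (s : S) (ω : Ω) : a • (s • ω) = ((a : MulAut S) s) • (a • ω) := by
  rw [← h s ω, ← h _ (a • ω), ← mul_smul, ← mul_smul, conj_mul]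

/-- **fixed points of an automorphism which centralizes a Sylow subgroup** -/
theorem permC_modEq {p : ℕ} [hp : Fact p.Prime] [Finite S] [Finite Ω] (h : Inner hA Ω) (Q : Sylow p S) {a : A}
    (ha : ∀ x ∈ Q, (a : MulAut S) x = x) (hfix : ∀ ω : Ω, (∀ x ∈ Q, x • ω = ω) → a • ω = ω) :
    Nat.card (fixedBy Ω a) ≡ Nat.card Ω [MOD p] := by
  classical
  have hmem : ∀ (x : S), x ∈ Q → ∀ ω : Ω, ω ∈ fixedBy Ω a → x • ω ∈ fixedBy Ω a := by
    intro x hx ω hω
    rw [mem_fixedBy] at hω ⊢
    rw [h.smul_smul, ha x hx, hω]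
  let act : MulAction (Q : Subgroup S) (fixedBy Ω a) :=
    { smul := fun x ω => ⟨(x : S) • (ω : Ω), hmem x x.2 ω ω.2⟩
      one_smul := fun ω => Subtype.ext (one_smul S (ω : Ω))
      mul_smul := fun x y ω => Subtype.ext (mul_smul (x : S) (y : S) (ω : Ω)) }
  have h1 := (Q.2).card_modEq_card_fixedPoints (fixedBy Ω a)
  have h2 := (Q.2).card_modEq_card_fixedPoints Ω
  refine h1.trans (Nat.ModEq.trans ?_ h2.symm)
  have h3 : Nat.card (fixedPoints (Q : Subgroup S) (fixedBy Ω a)) = Nat.card (fixedPoints (Q : Subgroup S) Ω) := by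
    refine Nat.card_congr ⟨fun ω => ⟨ω.1.1, fun x => congrArg Subtype.val (ω.2 x)⟩,
      fun ω => ⟨⟨ω.1, hfix ω.1 fun x hx => ω.2 ⟨x, hx⟩⟩, fun x => Subtype.ext (ω.2 x)⟩, fun _ => rfl, fun _ => rfl⟩
  rw [h3]

theorem permC_conj (h : Inner hA Ω) (s : S) : permC A Ω (⟨MulAut.conj s, hA s⟩ : A) = permC S Ω s := by
  unfold permC
  congr 1
  refine Nat.card_congr (Equiv.subtypeEquivRight fun ω => ?_)
  rw [mem_fixedBy, mem_fixedBy, h]

/-- powers prime to the group order have the same fixed points -/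
theorem permC_pow {G : Type u} [Group G] [Finite G] (X : Type v) [MulAction G X] {k : ℕ} (hk : Nat.Coprime k (Nat.card G))
    (g : G) : permC G X (g ^ k) = permC G X g := by
  unfold permC
  congr 1
  refine Nat.card_congr (Equiv.subtypeEquivRight fun ω => ?_)
  rw [mem_fixedBy, mem_fixedBy]
  constructor
  · intro h
    have h1 : g ∈ Subgroup.zpowers (g ^ k) := by
      have h2 : Nat.Coprime k (orderOf g) := hk.coprime_dvd_right (orderOf_dvd_natCard g)
      obtain ⟨m, hm⟩ := exists_pow_eq_self_of_coprime h2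
      have h3 : (g ^ k) ^ m ∈ Subgroup.zpowers (g ^ k) := Subgroup.npow_mem_zpowers _ _
      rwa [hm] at h3
    have h3 : Subgroup.zpowers (g ^ k) ≤ stabilizer G ω := by
      rw [Subgroup.zpowers_le]
      exact h
    exact h3 h1
  · intro h
    have h3 : g ∈ stabilizer G ω := h
    exact (stabilizer G ω).pow_mem h3 k

theorem cyc_permC {p : ℕ} {G : Type u} [Group G] [Finite G] (X : Type v) [MulAction G X] : Cyc p (permC G X) :=
  fun _ hk _ g => permC_pow X hk g

theorem cyc_sub {p : ℕ} {G : Type u} [Group G] {χ ψ : G → ℂ} (h : Cyc p χ) (h' : Cyc p ψ) :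
    Cyc p (fun g => χ g - ψ g) := by
  intro k hk hk' g
  show χ (g ^ k) - ψ (g ^ k) = χ g - ψ g
  rw [h k hk hk' g, h' k hk hk' g]

theorem cyc_one {p : ℕ} {G : Type u} [Group G] : Cyc p (fun _ : G => (1 : ℂ)) := fun _ _ _ _ => rfl

/-- multiples of `p` are in the local ideal -/
theorem local_of_modEq {p : ℕ} {M : Ideal AlgInt} (hM : IsPModular p M) {a b : ℕ}
    (h : a ≡ b [MOD p]) : MemLocalIdeal M ((a : ℂ) - b) := by
  obtain ⟨hp, hmax, hpM⟩ := hM
  obtain ⟨c, hc⟩ := (Nat.modEq_iff_dvd.1 h.symm)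
  have h1 : ((a : ℂ) - b) = (((p : AlgInt) * (c : AlgInt) : AlgInt) : ℂ) := by
    have h2 : ((a : ℤ) : ℂ) - ((b : ℤ) : ℂ) = ((p : ℤ) : ℂ) * ((c : ℤ) : ℂ) := by
      rw [← Int.cast_sub, hc, Int.cast_mul]
    push_cast at h2 ⊢
    exact h2
  rw [h1]
  exact (Cfsg.Agent.Blocks.Fong.lideal_coe_iff hmax.isPrime).2 (M.mul_mem_right _ hpM)

/-! ### the action on the points from the action on the stabilizers -/

section act

variable {Ω' : Type v} [MulAction S Ω']

/-- the action of `A` on `Ω` if `A` permutes the stabilizers -/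
@[reducible] noncomputable def act (A : Subgroup (MulAut S)) (hinj : Function.Injective (stabilizer S : Ω' → Subgroup S))
    (hst : ∀ a ∈ A, ∀ ω : Ω', ∃ ω' : Ω', (stabilizer S ω).map (a : MulAut S).toMonoidHom = stabilizer S ω') :
    MulAction A Ω' where
  smul a ω := Classical.choose (hst a a.2 ω)
  one_smul ω := by
    apply hinj
    refine (Classical.choose_spec (hst (1 : A) (1 : A).2 ω)).symm.trans ?_
    exact Subgroup.map_id _
  mul_smul a b ω := by
    apply hinj
    refine (Classical.choose_spec (hst ((a * b : A) : MulAut S) (a * b).2 ω)).symm.trans ?_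
    refine Eq.trans ?_ (Classical.choose_spec (hst a a.2 (Classical.choose (hst b b.2 ω))))
    rw [← Classical.choose_spec (hst b b.2 ω), Subgroup.map_map]
    rfl

theorem stabilizer_act (hinj : Function.Injective (stabilizer S : Ω' → Subgroup S))
    (hst : ∀ a ∈ A, ∀ ω : Ω', ∃ ω' : Ω', (stabilizer S ω).map (a : MulAut S).toMonoidHom = stabilizer S ω') (a : A)
    (ω : Ω') :
    letI := act A hinj hst
    stabilizer S (a • ω) = (stabilizer S ω).map (a : MulAut S).toMonoidHom :=
  (Classical.choose_spec (hst a a.2 ω)).symm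

theorem inner_act (hA : ∀ s : S, MulAut.conj s ∈ A) (hinj : Function.Injective (stabilizer S : Ω' → Subgroup S))
    (hst : ∀ a ∈ A, ∀ ω : Ω', ∃ ω' : Ω', (stabilizer S ω).map (a : MulAut S).toMonoidHom = stabilizer S ω') :
    letI := act A hinj hst
    Inner hA Ω' := by
  intro s ω
  apply hinj
  rw [stabilizer_act hinj hst, MulAction.stabilizer_smul_eq_stabilizer_map_conj]

end act

/-! ### The witness -/

/-- **`Ψ = π - 1`** -/
theorem witA_perm {p : ℕ} [hp : Fact p.Prime] [Fintype S] [Finite Ω] [Nonempty Ω] {M : Ideal AlgInt}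
    (hM : IsPModular p M) (h : Inner hA Ω) {J : Type*} [Fintype J] (θ : J → IrrCharacter S)
    (hinj : Function.Injective θ) (hθ : ∀ j, ((θ j : IrrCharacter S) : S → ℂ) ≠ (fun _ => 1))
    (hc : ∀ j, Cyc p ((θ j : IrrCharacter S) : S → ℂ))
    (hs : ∀ s : S, permC S Ω s - 1 = ∑ j, ((θ j : IrrCharacter S) : S → ℂ) s)
    (hd : ¬ Nat.card Ω ≡ 1 [MOD p])
    (hfix : ∀ (Q : Sylow p S) (a : A), (∀ x ∈ Q, (a : MulAut S) x = x) → ∀ ω : Ω, (∀ x ∈ Q, x • ω = ω) → a • ω = ω) :
    WitA p M S A hA (fun a => permC A Ω a - 1) := by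
  have hfS : Finite (MulAut S) := Finite.of_injective (fun a => (a : S → S)) DFunLike.coe_injective
  have : Finite A := Subtype.finite
  have hpos : 1 ≤ Nat.card Ω := Nat.card_pos
  refine H125.CY.witA_of_sum (H996.Eight.Interval.isCharacter_pc_sub_one (G := A) (X := Ω)) (cyc_sub (cyc_permC Ω) cyc_one) ?_ θ
    hinj (fun j => ⟨hθ j, hc j⟩) (fun s => ?_) ?_
  · refine ⟨Nat.card Ω - 1, ?_, ?_⟩
    · rw [Nat.cast_sub hpos, Nat.cast_one]
      congr 1
      unfold permC
      congr 1
      exact Nat.card_congr (Equiv.subtypeUnivEquiv fun x => one_smul _ x)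
    · intro h1
      exact hd ((Nat.modEq_iff_dvd' hpos).2 h1).symm
  · rw [permC_conj h s]
    exact hs s
  · rintro a - ⟨Q, hQ⟩
    have h1 := permC_modEq h Q hQ (hfix Q a hQ)
    have h2 := local_of_modEq hM h1
    have h3 : permC A Ω (1 : A) = (Nat.card Ω : ℂ) := by
      unfold permC
      congr 1
      exact Nat.card_congr (Equiv.subtypeUnivEquiv fun x => one_smul _ x)
    rw [h3]
    have h4 : permC A Ω a - 1 - ((Nat.card Ω : ℂ) - 1) = (Nat.card (fixedBy Ω a) : ℂ) - Nat.card Ω := by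
      unfold permC
      ring
    rw [h4]
    exact h2

end Cfsg.Agent.H205.CY
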