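import Cfsg.Agent.H205.CY.Num
import Cfsg.Agent.H205.CY.Act
import Cfsg.Agent.H666.CY.PslFl

/-!
# S4829, `PSL_n(q)`, `p ∣ q - 1`: type preserving automorphisms centralizing a Sylow subgroup (helper205)

`counts_one` : the numbers of points, lines and (point, line)-flags fixed by such an automorphism, modulo `p`.
-/

set_option autoImplicit false
set_option linter.unusedSectionVars false

open Matrix Module Subgroup MulAction

namespace Cfsg.Agent.H205.CY

open Cfsg.Agent.H829.BR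
open Cfsg.Agent.H932.BR (Om)
open Cfsg.Agent.H199.PslAut
open Cfsg.Agent.ClassicalGeometry.AutPSL.Root
open Cfsg.Agent.ClassicalGeometry.AutPSL.Auto
open Cfsg.Agent.H666.CY

universe u

variable {p : ℕ} [hp : Fact p.Prime] {F : Type u} [Field F] [Fintype F] {n : ℕ}

/-- the invariant subspaces of `Q` are fixed -/
theorem fix_om (hpF : (p : F) ≠ 0) (hn3 : 3 ≤ n) (hq : p ∣ Fintype.card F - 1) (hn : ¬ p ∣ n)
    (Q : Sylow p (Matrix.ProjectiveSpecialLinearGroup (Fin n) F)) {a : A0 F n}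
    (ha : ∀ c ∈ Q, (a : MulAut (Matrix.ProjectiveSpecialLinearGroup (Fin n) F)) c = c) {k : ℕ} (W : Om F n k)
    (hW : ∀ c ∈ Q, c • W = W) : a • W = W := by
  obtain ⟨g, σ, hgs, hl⟩ := exists_lat_gs (by omega) a
  apply Subtype.ext
  rw [a0_coe_smul, hl]
  apply Submodule.eq_of_le_of_finrank_eq
  · intro v hv
    have h1 : (g : Matrix (Fin n) (Fin n) F) *ᵥ (fun i => σ (tinv g σ v i)) = v := (tinv g σ).symm_apply_apply v
    rw [← h1]
    exact stable_aut hpF hn3 hq hn Q (fun c hc => by rw [← hgs]; exact ha c hc) W hW hv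
  · exact finrank_gs g σ W.1

theorem inner_fl {k l : ℕ} : Inner (hA := conj_mem_A0 (F := F) (n := n)) (Fl F n k l) := fun s x => inn_smul_fl s x

theorem card_fl_of_not_dvd (hpF : (p : F) ≠ 0) (hn3 : 3 ≤ n) (hq : p ∣ Fintype.card F - 1) (hn : ¬ p ∣ n)
    (Q : Sylow p (Matrix.ProjectiveSpecialLinearGroup (Fin n) F)) {a : A0 F n}
    (ha : ∀ c ∈ Q, (a : MulAut (Matrix.ProjectiveSpecialLinearGroup (Fin n) F)) c = c) (k l : ℕ) :
    Nat.card (fixedBy (Fl F n k l) a) ≡ Nat.card (Fl F n k l) [MOD p] := by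
  refine permC_modEq inner_fl Q ha fun x hx => ?_
  apply Subtype.ext
  refine Prod.ext ?_ ?_
  · exact fix_om hpF hn3 hq hn Q ha x.1.1 fun c hc => congrArg (fun y => y.1.1) (hx c hc)
  · exact fix_om hpF hn3 hq hn Q ha x.1.2 fun c hc => congrArg (fun y => y.1.2) (hx c hc)

theorem card_fl_of_dvd {k l : ℕ} (hd : p ∣ Nat.card (Fl F n k l))
    (Q : Sylow p (Matrix.ProjectiveSpecialLinearGroup (Fin n) F)) {a : A0 F n}
    (ha : ∀ c ∈ Q, (a : MulAut (Matrix.ProjectiveSpecialLinearGroup (Fin n) F)) c = c) :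
    Nat.card (fixedBy (Fl F n k l) a) ≡ Nat.card (Fl F n k l) [MOD p] := by
  refine permC_modEq inner_fl Q ha fun x hx => ?_
  exfalso
  have h1 : IsPretransitive (Matrix.ProjectiveSpecialLinearGroup (Fin n) F) (Fl F n k l) := ⟨trans⟩
  have h2 := index_stabilizer_of_transitive (Matrix.ProjectiveSpecialLinearGroup (Fin n) F) x
  have h3 : (Q : Subgroup (Matrix.ProjectiveSpecialLinearGroup (Fin n) F)) ≤ stabilizer _ x := hx
  have h4 := Subgroup.index_dvd_of_le h3
  rw [h2] at h4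
  exact Q.not_dvd_index (hd.trans h4)

/-- **the counts, `p ∣ q - 1`** -/
theorem counts_one (hp2 : p ≠ 2) (hn3 : 3 ≤ n) (hpF : (p : F) ≠ 0) (hq : p ∣ Fintype.card F - 1)
    (Q : Sylow p (Matrix.ProjectiveSpecialLinearGroup (Fin n) F)) {a : A0 F n}
    (ha : ∀ c ∈ Q, (a : MulAut (Matrix.ProjectiveSpecialLinearGroup (Fin n) F)) c = c) :
    (Nat.card (fixedBy (Fl F n 0 1) a) : ZMod p) = n ∧
      (Nat.card (fixedBy (Fl F n 0 2) a) : ZMod p) = (n.choose 2 : ℕ) ∧
      (Nat.card (fixedBy (Fl F n 1 2) a) : ZMod p) = n * (n - 1) := by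
  have c1 : (Nat.card (Fl F n 0 1) : ZMod p) = n := by
    rw [show Nat.card (Fl F n 0 1) = NN F n 1 from card_fl_zero 1, NN_one (by omega) hq]
  have c2 : (Nat.card (Fl F n 0 2) : ZMod p) = (n.choose 2 : ℕ) := by
    rw [show Nat.card (Fl F n 0 2) = NN F n 2 from card_fl_zero 2, NN_two hp2 (by omega) hq]
  have c3' : (2 : ZMod p) * (n.choose 2 : ℕ) = n * (n - 1) := by
    have h3 : 2 ∣ n * (n - 1) := (Nat.even_mul_pred_self n).two_dvd
    have h4 : 2 * n.choose 2 = n * (n - 1) := by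
      rw [Nat.choose_two_right]
      exact Nat.mul_div_cancel' h3
    have h5 := congrArg (Nat.cast : ℕ → ZMod p) h4
    rw [Nat.cast_mul, Nat.cast_mul, Nat.cast_sub (by omega : 1 ≤ n), Nat.cast_one] at h5
    exact_mod_cast h5
  have c3 : (Nat.card (Fl F n 1 2) : ZMod p) = n * (n - 1) := by
    rw [show Nat.card (Fl F n 1 2) = NN F n 2 * NN F 2 1 from card_fl_one_two, Nat.cast_mul, NN_two hp2 (by omega) hq,
      NN_one (by omega) hq, ← c3', mul_comm, Nat.cast_ofNat]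
  have key : ∀ k l, (p ∣ n → (Nat.card (Fl F n k l) : ZMod p) = 0) →
      (Nat.card (fixedBy (Fl F n k l) a) : ZMod p) = Nat.card (Fl F n k l) := by
    intro k l h
    rw [ZMod.natCast_eq_natCast_iff]
    by_cases hn : p ∣ n
    · exact card_fl_of_dvd ((ZMod.natCast_eq_zero_iff _ _).1 (h hn)) Q ha
    · exact card_fl_of_not_dvd hpF hn3 hq hn Q ha k l
  have hz : p ∣ n → (n : ZMod p) = 0 := fun h => (ZMod.natCast_eq_zero_iff _ _).2 h
  refine ⟨(key 0 1 fun h => ?_).trans c1, (key 0 2 fun h => ?_).trans c2, (key 1 2 fun h => ?_).trans c3⟩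
  · rw [c1, hz h]
  · rw [c2]
    rw [hz h, zero_mul] at c3'
    exact (mul_eq_zero.1 c3').resolve_left (two_ne_zero_zmod hp2)
  · rw [c3, hz h, zero_mul]

end Cfsg.Agent.H205.CY
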