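import Cfsg.Agent.H205.CY.One

/-!
# S4829, `PSL_n(q)`, `p ∣ q - 1`: the numbers of flags modulo `p` (helper205)
-/

set_option autoImplicit false
set_option linter.unusedSectionVars false

open Matrix Module Subgroup

namespace Cfsg.Agent.H205.CY

open Cfsg.Agent.H829.BR
open Cfsg.Agent.H932.BR (Om)

universe u

variable {p : ℕ} [hp : Fact p.Prime] {F : Type u} [Field F] [Fintype F] {n : ℕ}

theorem cast_q (hq : p ∣ Fintype.card F - 1) : (Fintype.card F : ZMod p) = 1 := by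
  rw [← ZMod.natCast_eq_zero_iff, Nat.cast_sub one_lt_card.le, Nat.cast_one, sub_eq_zero] at hq
  exact hq

/-- `[2] [n choose 2] = [n] [n - 1]` -/
theorem NN_two_mul (hn : 2 ≤ n) :
    NN F n 2 * (Fintype.card F + 1) = NN F n 1 * ∑ j ∈ Finset.range (n - 1), Fintype.card F ^ j := by
  have h1 := NN_succ (F := F) (n := n) (k := 1) (by omega)
  have hq1 : 0 < Fintype.card F - 1 := Nat.sub_pos_of_lt one_lt_card
  have h2 : Fintype.card F ^ (1 + 1) - 1 = (Fintype.card F - 1) * (Fintype.card F + 1) := by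
    have := Nat.sq_sub_sq (Fintype.card F) 1
    rw [one_pow] at this
    rw [show 1 + 1 = 2 from rfl, this, mul_comm]
  rw [h2, geom Fintype.card_pos (m := n - 1)] at h1
  apply Nat.eq_of_mul_eq_mul_left hq1
  calc (Fintype.card F - 1) * (NN F n 2 * (Fintype.card F + 1))
      = NN F n (1 + 1) * ((Fintype.card F - 1) * (Fintype.card F + 1)) := by ring
    _ = NN F n 1 * ((Fintype.card F - 1) * ∑ j ∈ Finset.range (n - 1), Fintype.card F ^ j) := h1
    _ = _ := by ring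

theorem cast_geom (hq : p ∣ Fintype.card F - 1) (m : ℕ) :
    ((∑ j ∈ Finset.range m, Fintype.card F ^ j : ℕ) : ZMod p) = m := by
  rw [Nat.cast_sum]
  have h8 : ∀ j ∈ Finset.range m, ((Fintype.card F ^ j : ℕ) : ZMod p) = 1 := fun j _ => by
    rw [Nat.cast_pow, cast_q hq, one_pow]
  rw [Finset.sum_congr rfl h8, Finset.sum_const, Finset.card_range, nsmul_eq_mul, mul_one]

theorem two_ne_zero_zmod (hp2 : p ≠ 2) : (2 : ZMod p) ≠ 0 := by
  intro h
  have h9 : ((2 : ℕ) : ZMod p) = 0 := by exact_mod_cast h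
  rw [ZMod.natCast_eq_zero_iff] at h9
  exact hp2 ((Nat.prime_dvd_prime_iff_eq hp.out Nat.prime_two).1 h9)

theorem NN_two (hp2 : p ≠ 2) (hn : 2 ≤ n) (hq : p ∣ Fintype.card F - 1) : (NN F n 2 : ZMod p) = (n.choose 2 : ℕ) := by
  have h1 := congrArg (Nat.cast : ℕ → ZMod p) (NN_two_mul (F := F) hn)
  rw [Nat.cast_mul, Nat.cast_mul, cast_geom hq, NN_one (by omega) hq, Nat.cast_add, cast_q hq, Nat.cast_one] at h1
  have h2 : ((n.choose 2 : ℕ) : ZMod p) * (1 + 1) = n * ((n - 1 : ℕ) : ZMod p) := by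
    rw [Nat.choose_two_right]
    have h3 : 2 ∣ n * (n - 1) := (Nat.even_mul_pred_self n).two_dvd
    have h4 : n * (n - 1) / 2 * 2 = n * (n - 1) := Nat.div_mul_cancel h3
    have h5 := congrArg (Nat.cast : ℕ → ZMod p) h4
    rw [Nat.cast_mul, Nat.cast_mul] at h5
    rw [one_add_one_eq_two]
    exact_mod_cast h5
  have h3 : ((1 : ZMod p) + 1) ≠ 0 := by
    rw [one_add_one_eq_two]
    exact two_ne_zero_zmod hp2
  exact mul_right_cancel₀ h3 (h1.trans h2.symm)

/-- the flags -/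
abbrev Flg (F : Type u) [Field F] (n k l : ℕ) : Type _ := {x : Om F n k × Om F n l // x.1.1 ≤ x.2.1}

theorem card_fl_zero (l : ℕ) : Nat.card (Flg F n 0 l) = NN F n l := by
  have h0 : ∀ W : Om F n 0, W.1 = ⊥ := fun W => Submodule.finrank_eq_zero.1 W.2
  refine Nat.card_congr ⟨fun x => x.1.2, fun W => ⟨(⟨⊥, finrank_bot F _⟩, W), bot_le⟩, fun x => ?_, fun W => rfl⟩
  apply Subtype.ext
  refine Prod.ext (Subtype.ext ?_) rfl
  exact (h0 _).symm

/-- the lines in a plane -/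
theorem card_lines (U : Om F n 2) : Nat.card {W : Om F n 1 // W.1 ≤ U.1} = NN F 2 1 := by
  have e : U.1 ≃ₗ[F] (Fin 2 → F) := LinearEquiv.ofFinrankEq _ _ (by rw [U.2, finrank_fin_fun])
  have e1 : {W : Om F n 1 // W.1 ≤ U.1} ≃ {x : Set.Iic U.1 // finrank F (x : Submodule F (Fin n → F)) = 1} :=
    ⟨fun x => ⟨⟨x.1.1, x.2⟩, x.1.2⟩, fun y => ⟨⟨y.1.1, y.2⟩, y.1.2⟩, fun _ => rfl, fun _ => rfl⟩
  have e2 : {W : Submodule F U.1 // finrank F W = 1} ≃
      {x : Set.Iic U.1 // finrank F (x : Submodule F (Fin n → F)) = 1} :=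
    (U.1.mapIic).toEquiv.subtypeEquiv fun W => by
      show _ ↔ finrank F ((U.1.mapIic W : Set.Iic U.1) : Submodule F (Fin n → F)) = 1
      rw [Submodule.coe_mapIic_apply, Submodule.finrank_map_subtype_eq]
  have e3 : {W : Submodule F U.1 // finrank F W = 1} ≃ Om F 2 1 :=
    (Submodule.orderIsoMapComap e).toEquiv.subtypeEquiv fun W => by
      show _ ↔ finrank F (W.map (e : U.1 →ₗ[F] (Fin 2 → F))) = 1
      rw [LinearEquiv.finrank_map_eq]
  exact Nat.card_congr (e1.trans (e2.symm.trans e3))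

theorem card_fl_one_two : Nat.card (Flg F n 1 2) = NN F n 2 * NN F 2 1 := by
  have e : Flg F n 1 2 ≃ Σ U : Om F n 2, {W : Om F n 1 // W.1 ≤ U.1} :=
    ⟨fun x => ⟨x.1.2, x.1.1, x.2⟩, fun y => ⟨(y.2.1, y.1), y.2.2⟩, fun _ => rfl, fun _ => rfl⟩
  rw [Nat.card_congr e]
  have := Fintype.ofFinite (Om F n 2)
  rw [Nat.card_sigma, Finset.sum_congr rfl fun U _ => card_lines U, Finset.sum_const, Finset.card_univ, smul_eq_mul]
  rw [← Nat.card_eq_fintype_card]
  rfl

end Cfsg.Agent.H205.CY
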