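import Cfsg.Agent.H829.BR.Cnt
import Cfsg.Agent.H199.PslAut

/-!
# S4829, `PSL_n(q)`, `p ∣ q - 1`: semilinear maps commuting with a Sylow subgroup (helper205)

`stable_semi` : `P` a Sylow `p`-subgroup of `SL_n(q)`, `p ∣ q - 1`, `p ∤ n`, `n ≥ 3`: a semilinear map commuting with `P`
preserves every `P`-invariant subspace.
-/

set_option autoImplicit false
set_option linter.unusedSectionVars false

open Matrix Module Subgroup

namespace Cfsg.Agent.H205.CY

open Cfsg.Agent.H829.BR
open Cfsg.Agent.H932.BR (Om)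

universe u

variable {p : ℕ} [hp : Fact p.Prime] {F : Type u} [Field F] [Fintype F] {n : ℕ} (P : Sylow p (SLn F n))

/-- an element of `P` with two given eigenvalues -/
theorem exists_z (hpF : (p : F) ≠ 0) {ζ : Fˣ} (hζ : orderOf ζ = p)
    {W : Submodule F (Fin n → F)} (hW : ∀ x ∈ (P : Subgroup (SLn F n)), ∀ w ∈ W, rho F n x w ∈ W) :
    ∃ (e : Module.End F (Fin n → F)) (z : SLn F n), z ∈ (P : Subgroup (SLn F n)) ∧ (∀ v, e v ∈ W) ∧ (∀ w ∈ W, e w = w) ∧
      ∀ v, rho F n z v = ((ζ : F) ^ (n - finrank F W)) • e v + ((ζ : F) ^ ((p - 1) * finrank F W)) • (v - e v) := by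
  classical
  obtain ⟨e, h1, h2, h3, h4⟩ := exists_proj P hpF W hW
  have hk : finrank F W ≤ n := by
    have := Submodule.finrank_le W
    rwa [finrank_fin_fun] at this
  set k := finrank F W with hkdef
  let a : F := (ζ : F) ^ (n - k)
  let b : F := (ζ : F) ^ ((p - 1) * k)
  have hζp : (ζ : F) ^ p = 1 := by rw [← Units.val_pow_eq_pow_val, ← hζ, pow_orderOf_eq_one, Units.val_one]
  have hap : a ^ p = 1 := by
    show ((ζ : F) ^ (n - k)) ^ p = 1
    rw [← pow_mul, mul_comm, pow_mul, hζp, one_pow]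
  have hbp : b ^ p = 1 := by
    show ((ζ : F) ^ ((p - 1) * k)) ^ p = 1
    rw [← pow_mul, mul_comm, pow_mul, hζp, one_pow]
  let z : Module.End F (Fin n → F) := a • e + b • (1 - e)
  have hz : ∀ v, z v = a • e v + b • (v - e v) := fun v => rfl
  have hee : ∀ v, e (e v) = e v := fun v => h2 _ (h1 v)
  have hzk : ∀ (m : ℕ) v, (z ^ m) v = a ^ m • e v + b ^ m • (v - e v) := by
    intro m
    induction m with
    | zero => intro v; rw [pow_zero, pow_zero, pow_zero, one_smul, one_smul, Module.End.one_apply]; abel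
    | succ m ih =>
      intro v
      rw [pow_succ, Module.End.mul_apply, ih, hz]
      have h5 : e (a • e v + b • (v - e v)) = a • e v := by
        rw [map_add, map_smul, map_smul, map_sub, hee, sub_self, smul_zero, add_zero]
      rw [h5, add_sub_cancel_left, smul_smul, smul_smul, pow_succ, pow_succ]
  have hdet : LinearMap.det z = 1 := by
    rw [det_proj h1 h2, ← hkdef]
    show ((ζ : F) ^ (n - k)) ^ k * ((ζ : F) ^ ((p - 1) * k)) ^ (n - k) = 1
    rw [← pow_mul, ← pow_mul, ← pow_add]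
    have h7 : (n - k) * k + (p - 1) * k * (n - k) = p * (k * (n - k)) := by
      have := hp.out.one_lt
      obtain ⟨r, rfl⟩ : ∃ r, p = r + 1 := ⟨p - 1, by omega⟩
      rw [Nat.add_sub_cancel]
      ring
    rw [h7, pow_mul, hζp, one_pow]
  have hmem : mkSL z hdet ∈ (P : Subgroup (SLn F n)) := by
    refine mem_of_comm P (m := 1) (rho_injective ?_) fun x hx => rho_injective ?_
    · rw [map_pow, rho_mkSL, map_one, pow_one]
      apply LinearMap.ext
      intro v
      rw [hzk, hap, hbp, one_smul, one_smul, Module.End.one_apply]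
      abel
    · rw [map_mul, map_mul, rho_mkSL]
      apply LinearMap.ext
      intro v
      have h6 := LinearMap.congr_fun (h4 x hx) v
      rw [Module.End.mul_apply, Module.End.mul_apply] at h6
      rw [Module.End.mul_apply, Module.End.mul_apply, hz, hz, h6, map_add, map_smul, map_smul, map_sub]
  exact ⟨e, mkSL z hdet, hmem, h1, h2, fun v => by rw [rho_mkSL, hz]⟩

theorem exists_zeta (hq : p ∣ Fintype.card F - 1) : ∃ ζ : Fˣ, orderOf ζ = p := by
  classical
  have h1 : p ∣ Nat.card Fˣ := by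
    rw [Nat.card_eq_fintype_card, Fintype.card_units]
    exact hq
  exact exists_prime_orderOf_dvd_card' p h1

theorem zeta_ne (hn : ¬ p ∣ n) {ζ : Fˣ} (hζ : orderOf ζ = p) {k : ℕ} (hk : k ≤ n) :
    (ζ : F) ^ (n - k) ≠ (ζ : F) ^ ((p - 1) * k) := by
  intro h
  have h5 : ζ ^ (n - k) = ζ ^ ((p - 1) * k) := Units.ext (by
    rw [Units.val_pow_eq_pow_val, Units.val_pow_eq_pow_val]; exact h)
  have h6 : ζ ^ (n - k + k) = ζ ^ ((p - 1) * k + k) := by rw [pow_add, h5, ← pow_add]
  have h7 : (p - 1) * k + k = p * k := by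
    have := hp.out.one_lt
    obtain ⟨r, rfl⟩ : ∃ r, p = r + 1 := ⟨p - 1, by omega⟩
    rw [Nat.add_sub_cancel]
    ring
  rw [Nat.sub_add_cancel hk, h7, pow_mul, ← hζ, pow_orderOf_eq_one, one_pow] at h6
  exact hn (hζ ▸ orderOf_dvd_of_pow_eq_one h6)

/-- the number of points modulo `p` -/
theorem NN_one (hn : 0 < n) (hq : p ∣ Fintype.card F - 1) : (NN F n 1 : ZMod p) = n := by
  have h5 := NN_succ (F := F) (n := n) (k := 0) hn
  rw [NN_zero, one_mul, zero_add, pow_one, Nat.sub_zero, geom Fintype.card_pos, mul_comm] at h5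
  have h6 := Nat.eq_of_mul_eq_mul_left (Nat.sub_pos_of_lt one_lt_card) h5
  rw [h6, Nat.cast_sum]
  have h7 : (Fintype.card F : ZMod p) = 1 := by
    rw [← ZMod.natCast_eq_zero_iff, Nat.cast_sub one_lt_card.le, Nat.cast_one, sub_eq_zero] at hq
    exact hq
  have h8 : ∀ j ∈ Finset.range n, ((Fintype.card F ^ j : ℕ) : ZMod p) = 1 := fun j _ => by
    rw [Nat.cast_pow, h7, one_pow]
  rw [Finset.sum_congr rfl h8, Finset.sum_const, Finset.card_range, nsmul_eq_mul, mul_one]

/-- `p ∤ n`: a fixed line -/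
theorem exists_line (hn0 : 0 < n) (hq : p ∣ Fintype.card F - 1) (hn : ¬ p ∣ n) :
    ∃ W : Om F n 1, ∀ x ∈ (P : Subgroup (SLn F n)), ∀ w ∈ W.1, rho F n x w ∈ W.1 := by
  have h1 : ¬ p ∣ Nat.card (Om F n 1) := by
    intro h
    apply hn
    rw [← ZMod.natCast_eq_zero_iff, ← NN_one (p := p) (F := F) hn0 hq]
    exact (ZMod.natCast_eq_zero_iff _ _).2 h
  obtain ⟨W, hW⟩ := (bar P).2.nonempty_fixed_point_of_prime_not_dvd_card (Om F n 1) h1
  exact ⟨W, (fixed_iff P W).1 fun g hg => hW ⟨g, hg⟩⟩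

/-- **A semilinear map commuting with `P` preserves every `P`-invariant subspace.** -/
theorem stable_semi (hpF : (p : F) ≠ 0) (hn3 : 3 ≤ n) (hq : p ∣ Fintype.card F - 1) (hn : ¬ p ∣ n)
    {σ : F ≃+* F} {f : (Fin n → F) →+ (Fin n → F)} (hf : Function.Injective f) (hσ : ∀ (c : F) v, f (c • v) = σ c • f v)
    (hc : ∀ x ∈ (P : Subgroup (SLn F n)), ∀ v, f (rho F n x v) = rho F n x (f v))
    {W : Submodule F (Fin n → F)} (hW : ∀ x ∈ (P : Subgroup (SLn F n)), ∀ w ∈ W, rho F n x w ∈ W) {w : Fin n → F}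
    (hw : w ∈ W) : f w ∈ W := by
  classical
  obtain ⟨ζ, hζ⟩ := exists_zeta (p := p) hq
  -- `σ` fixes `ζ`
  have hfixb : σ ((ζ : F) ^ (p - 1)) = (ζ : F) ^ (p - 1) := by
    obtain ⟨l, hl⟩ := exists_line P (by omega) hq hn
    obtain ⟨e, z, hz, h1, h2, h3⟩ := exists_z P hpF hζ hl
    have hab := zeta_ne (F := F) hn hζ (k := 1) (by omega)
    rw [l.2, mul_one] at h3
    rw [mul_one] at hab
    set a := (ζ : F) ^ (n - 1) with ha
    set b := (ζ : F) ^ (p - 1) with hb
    by_contra hcon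
    -- `f` maps the kernel of `e` into the line
    have h4 : ∀ v, e v = 0 → f v ∈ l.1 := by
      intro v hv
      have h5 := hc z hz v
      rw [h3, h3, hv, smul_zero, zero_add, sub_zero, hσ] at h5
      have h6 : (σ b - b) • (f v - e (f v)) = 0 := by
        have h7 : e (σ b • f v) = e (a • e (f v) + b • (f v - e (f v))) := by rw [h5]
        rw [map_smul, map_add, map_smul, map_smul, map_sub, h2 _ (h1 (f v)), sub_self, smul_zero, add_zero] at h7
        rw [sub_smul, smul_sub, smul_sub, h5, h7]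
        have h8 : σ b • f v = a • e (f v) + b • (f v - e (f v)) := h5
        rw [smul_sub]
        abel
      rcases smul_eq_zero.1 h6 with h7 | h7
      · exact absurd (sub_eq_zero.1 h7) hcon
      · rw [sub_eq_zero.1 h7]
        exact h1 _
    have h5 : Nat.card (LinearMap.ker e) ≤ Nat.card l.1 :=
      Nat.card_le_card_of_injective (fun v : LinearMap.ker e => (⟨f v, h4 v v.2⟩ : l.1))
        fun v v' h => Subtype.ext (hf (congrArg Subtype.val h))
    have h6 : finrank F (LinearMap.ker e) = n - 1 := by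
      have h7 := LinearMap.finrank_range_add_finrank_ker e
      have h8 : LinearMap.range e = l.1 := by
        apply le_antisymm
        · rintro _ ⟨v, rfl⟩
          exact h1 v
        · intro v hv
          exact ⟨v, h2 v hv⟩
      rw [h8, l.2, finrank_fin_fun] at h7
      omega
    rw [Module.natCard_eq_pow_finrank (K := F), Module.natCard_eq_pow_finrank (K := F) (V := l.1), h6, l.2] at h5
    have h7 := (Nat.pow_le_pow_iff_right (Finite.one_lt_card (α := F))).1 h5
    omega
  have hfix : σ (ζ : F) = ζ := by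
    have h1 : (ζ : F) ^ (p - 1) * ζ = 1 := by
      rw [← pow_succ, Nat.sub_add_cancel hp.out.one_lt.le, ← Units.val_pow_eq_pow_val, ← hζ, pow_orderOf_eq_one,
        Units.val_one]
    have h2 := congrArg σ h1
    rw [map_mul, map_one, hfixb] at h2
    exact mul_left_cancel₀ (pow_ne_zero _ ζ.ne_zero) (h2.trans h1.symm)
  -- the element for `W`
  obtain ⟨e, z, hz, h1, h2, h3⟩ := exists_z P hpF hζ hW
  have hk : finrank F W ≤ n := by
    have := Submodule.finrank_le W
    rwa [finrank_fin_fun] at this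
  have hab := zeta_ne (F := F) hn hζ hk
  set a := (ζ : F) ^ (n - finrank F W) with ha
  set b := (ζ : F) ^ ((p - 1) * finrank F W) with hb
  have h4 : σ a = a := by rw [ha, map_pow, hfix]
  have h5 := hc z hz w
  rw [h3, h3, h2 w hw, sub_self, smul_zero, add_zero, hσ, h4] at h5
  have h6 : (a - b) • (f w - e (f w)) = 0 := by
    have h7 : (a - b) • (f w - e (f w)) = a • f w - (a • e (f w) + b • (f w - e (f w))) := by
      rw [sub_smul, smul_sub]
      abel
    rw [h7, h5, sub_self]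
  rcases smul_eq_zero.1 h6 with h7 | h7
  · exact absurd (sub_eq_zero.1 h7) hab
  · rw [sub_eq_zero.1 h7]
    exact h1 _

/-! ### automorphisms of `PSL_n` -/

open Cfsg.Agent.H199.PslAut
open Cfsg.Agent.ClassicalGeometry.AutPSL.Root
open Cfsg.Agent.ClassicalGeometry.AutPSL.Auto

omit [Fintype F] in
theorem exists_bar [Finite F] (Q : Sylow p (Matrix.ProjectiveSpecialLinearGroup (Fin n) F)) :
    ∃ P : Sylow p (SpecialLinearGroup (Fin n) F),
      ∀ c, c ∈ (Q : Subgroup (Matrix.ProjectiveSpecialLinearGroup (Fin n) F)) ↔ ∃ x ∈ (P : Subgroup _), pr x = c := by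
  have h := Sylow.mapSurjective_surjective (QuotientGroup.mk'_surjective (center (SpecialLinearGroup (Fin n) F))) p
  obtain ⟨P, rfl⟩ := h Q
  exact ⟨P, fun c => Iff.rfl⟩

/-- the semilinear map of `g` and `σ` -/
def semi (g : GL (Fin n) F) (σ : F ≃+* F) : (Fin n → F) →+ (Fin n → F) where
  toFun v := (g : Matrix (Fin n) (Fin n) F) *ᵥ (fun i => σ (v i))
  map_zero' := by
    have : (fun i : Fin n => σ ((0 : Fin n → F) i)) = 0 := by
      funext i
      simp
    rw [this, Matrix.mulVec_zero]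
  map_add' v w := by
    have : (fun i : Fin n => σ ((v + w) i)) = (fun i => σ (v i)) + fun i => σ (w i) := by
      funext i
      simp
    rw [this, Matrix.mulVec_add]

theorem semi_apply (g : GL (Fin n) F) (σ : F ≃+* F) (v : Fin n → F) :
    semi g σ v = (g : Matrix (Fin n) (Fin n) F) *ᵥ (fun i => σ (v i)) := rfl

theorem semi_injective (g : GL (Fin n) F) (σ : F ≃+* F) : Function.Injective (semi g σ) := by
  intro v w h
  rw [semi_apply, semi_apply] at h
  have h1 := congrArg (fun u => ((g⁻¹ : GL (Fin n) F) : Matrix (Fin n) (Fin n) F) *ᵥ u) h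
  simp only [Matrix.mulVec_mulVec, ← Units.val_mul, inv_mul_cancel, Units.val_one, Matrix.one_mulVec] at h1
  funext i
  exact σ.injective (congrFun h1 i)

theorem semi_smul (g : GL (Fin n) F) (σ : F ≃+* F) (c : F) (v : Fin n → F) : semi g σ (c • v) = σ c • semi g σ v := by
  rw [semi_apply, semi_apply, ← Matrix.mulVec_smul]
  congr 1
  funext i
  simp

theorem semi_mulVec (g : GL (Fin n) F) (σ : F ≃+* F) (x : SpecialLinearGroup (Fin n) F) (v : Fin n → F) :
    semi g σ ((x : Matrix (Fin n) (Fin n) F) *ᵥ v) =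
      ((cj g (fld σ x) : SpecialLinearGroup (Fin n) F) : Matrix (Fin n) (Fin n) F) *ᵥ semi g σ v := by
  have h1 : ((cj g (fld σ x) : SpecialLinearGroup (Fin n) F) : Matrix (Fin n) (Fin n) F) =
      (g : Matrix (Fin n) (Fin n) F) * (x : Matrix (Fin n) (Fin n) F).map σ *
        ((g⁻¹ : GL (Fin n) F) : Matrix (Fin n) (Fin n) F) := rfl
  rw [semi_apply, semi_apply, h1, Matrix.mulVec_mulVec, Matrix.mul_assoc, ← Units.val_mul, inv_mul_cancel,
    Units.val_one, Matrix.mul_one, ← Matrix.mulVec_mulVec]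
  congr 1
  funext i
  simp only [Matrix.mulVec, dotProduct]
  rw [map_sum]
  exact Finset.sum_congr rfl fun j _ => by rw [map_mul]; rfl

/-- an automorphism centralizing the image of `P` centralizes `P` -/
theorem lift_comm (hn0 : 0 < n) (hn : ¬ p ∣ n) {g : GL (Fin n) F} {σ : F ≃+* F}
    (ha : ∀ x ∈ (P : Subgroup (SLn F n)), (Psi n F g * phi n F σ) (pr x) = pr x) {x : SLn F n}
    (hx : x ∈ (P : Subgroup (SLn F n))) : cj g (fld σ x) = x := by
  have h1 : pr (cj g (fld σ x)) = pr x := ha x hx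
  have h2 : x⁻¹ * cj g (fld σ x) ∈ center (SLn F n) := by
    rw [← pr_eq_one_iff, map_mul, map_inv, h1, inv_mul_cancel]
  set z := x⁻¹ * cj g (fld σ x) with hz
  obtain ⟨m, hm⟩ := P.isPGroup' ⟨x, hx⟩
  have hxm : x ^ p ^ m = 1 := congrArg Subtype.val hm
  have h4 : cj g (fld σ x) = x * z := by rw [hz, mul_inv_cancel_left]
  have h5 : z ^ p ^ m = 1 := by
    have h6 : (cj g (fld σ x)) ^ p ^ m = 1 := by rw [← map_pow, ← map_pow, hxm, map_one, map_one]
    have h7 : Commute x z := mem_center_iff.1 h2 x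
    rw [h4, h7.mul_pow, hxm, one_mul] at h6
    exact h6
  have h6 : z = 1 := by
    obtain ⟨r, hr, hr'⟩ := Matrix.SpecialLinearGroup.mem_center_iff.1 h2
    rw [Fintype.card_fin] at hr
    have h7 : r ^ p ^ m = 1 := by
      have h8 := congrArg (fun y : SLn F n => (y : Matrix (Fin n) (Fin n) F) ⟨0, hn0⟩ ⟨0, hn0⟩) h5
      simp only [Matrix.SpecialLinearGroup.coe_pow, Matrix.SpecialLinearGroup.coe_one] at h8
      rw [← hr', ← map_pow, Matrix.scalar_apply, Matrix.diagonal_apply_eq, Matrix.one_apply_eq] at h8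
      exact h8
    have h8 : r = 1 := by
      have hord : orderOf r ∣ p ^ m := orderOf_dvd_of_pow_eq_one h7
      have h9 : orderOf r ∣ (p ^ m).gcd n := Nat.dvd_gcd hord (orderOf_dvd_of_pow_eq_one hr)
      rw [Nat.Coprime.pow_left m ((Nat.Prime.coprime_iff_not_dvd hp.out).2 hn)] at h9
      exact orderOf_eq_one_iff.1 (Nat.dvd_one.1 h9)
    apply Subtype.ext
    rw [← hr', h8, map_one]
    rfl
  rw [h4, h6, mul_one]

/-- **An automorphism `Psi g * phi σ` centralizing a Sylow `p`-subgroup `Q` maps every `Q`-invariant subspace into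
itself** (`p ∣ q - 1`, `p ∤ n`, `n ≥ 3`). -/
theorem stable_aut (hpF : (p : F) ≠ 0) (hn3 : 3 ≤ n) (hq : p ∣ Fintype.card F - 1) (hn : ¬ p ∣ n)
    {g : GL (Fin n) F} {σ : F ≃+* F} (Q : Sylow p (Matrix.ProjectiveSpecialLinearGroup (Fin n) F))
    (ha : ∀ c ∈ Q, (Psi n F g * phi n F σ) c = c) {k : ℕ} (W : Om F n k)
    (hW : ∀ c ∈ Q, c • W = W) {w : Fin n → F} (hw : w ∈ W.1) :
    (g : Matrix (Fin n) (Fin n) F) *ᵥ (fun i => σ (w i)) ∈ W.1 := by
  obtain ⟨P, hP⟩ := exists_bar Q
  have hbar : ∀ c, c ∈ (bar P : Subgroup (Matrix.ProjectiveSpecialLinearGroup (Fin n) F)) ↔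
      c ∈ (Q : Subgroup (Matrix.ProjectiveSpecialLinearGroup (Fin n) F)) := fun c => (mem_bar P).trans (hP c).symm
  have hW' := (fixed_iff P W).1 fun c hc => hW c ((hbar c).1 hc)
  have hc : ∀ x ∈ (P : Subgroup (SLn F n)), cj g (fld σ x) = x := fun x hx =>
    lift_comm P (by omega) hn (fun y hy => ha _ ((hP _).2 ⟨y, hy, rfl⟩)) hx
  refine stable_semi P hpF hn3 hq hn (semi_injective g σ) (semi_smul g σ) (fun x hx v => ?_) hW' hw
  have h1 := semi_mulVec g σ x v
  rw [hc x hx] at h1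
  exact h1

end Cfsg.Agent.H205.CY
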